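import Mathlib
import Cfsg.Agent.LieClassical.OrthFinite
import Cfsg.Agent.Fischer920.IsoU
set_option linter.all false

set_option autoImplicit false
set_option maxRecDepth 100000

/-!
# The two quadrics in dimension 6 over `F_2`: `O(3)` is `Sym 8` or `R(5)`
-/

namespace Cfsg.Agent.Fischer920.IsoO

open Cfsg Cfsg.Agent.Fischer480.Defs
open Cfsg.Agent.LieClassical.OrthCore Cfsg.Agent.LieClassical.OrthTrans
open Cfsg.Agent.LieClassical.OrthFinite
open QuadraticMap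
open Cfsg.Agent.Fischer920.IsoU (vec5 tup5 vec_tup5 vec5_neg tup_vec5)

universe u

/-! ### the normal form -/

section Normal

variable {V : Type*} [AddCommGroup V] [Module (ZMod 2) V] {Q : QuadraticForm (ZMod 2) V}

theorem zero_or_one : ∀ a : ZMod 2, a = 0 ∨ a = 1 := by decide

/-- the standard forms -/
def qf (m : ZMod 2) (c : Fin 6 → ZMod 2) : ZMod 2 :=
  c 0 * c 1 + c 2 * c 3 + c 4 * c 5 + m * (c 4 * c 4 + c 5 * c 5)

theorem exists_pairs (hQ : Nondeg Q) (hd : Module.finrank (ZMod 2) V = 6) :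
    ∃ x1 y1 x2 y2 u v : V, ∃ m : ZMod 2, Hyp Q x1 y1 ∧ Hyp Q x2 y2 ∧
      polar Q x1 x2 = 0 ∧ polar Q x1 y2 = 0 ∧ polar Q y1 x2 = 0 ∧ polar Q y1 y2 = 0 ∧
      polar Q x1 u = 0 ∧ polar Q y1 u = 0 ∧ polar Q x2 u = 0 ∧ polar Q y2 u = 0 ∧
      polar Q x1 v = 0 ∧ polar Q y1 v = 0 ∧ polar Q x2 v = 0 ∧ polar Q y2 v = 0 ∧
      polar Q u v = 1 ∧ Q u = m ∧ Q v = m := by
  have hfd : Module.Finite (ZMod 2) V := Module.finite_of_finrank_pos (by omega)
  have : Finite V := Module.finite_of_finite (ZMod 2)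
  have hG : Good Q := good_of_finite hQ (by omega)
  obtain ⟨x1, y1, h1⟩ := hG.exists_hyp
  obtain ⟨x2, y2, h2, a1, a2, a3, a4⟩ := hG.exists_hyp2 h1
  obtain ⟨u, hu0, hu⟩ := exists_perp_ne (Q := Q) ![x1, y1, x2, y2] (by omega)
  have u1 : polar Q x1 u = 0 := hu 0
  have u2 : polar Q y1 u = 0 := hu 1
  have u3 : polar Q x2 u = 0 := hu 2
  have u4 : polar Q y2 u = 0 := hu 3
  obtain ⟨v0, hv0⟩ := hQ.exists_polar_eq hu0 1
  obtain ⟨v, v1, v2, v3, v4, v5⟩ : ∃ v, polar Q x1 v = 0 ∧ polar Q y1 v = 0 ∧ polar Q x2 v = 0 ∧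
      polar Q y2 v = 0 ∧ polar Q u v = 1 := by
    have a1' : polar Q x2 x1 = 0 := by rw [polar_comm]; exact a1
    have a2' : polar Q y2 x1 = 0 := by rw [polar_comm]; exact a2
    have a3' : polar Q x2 y1 = 0 := by rw [polar_comm]; exact a3
    have a4' : polar Q y2 y1 = 0 := by rw [polar_comm]; exact a4
    refine ⟨proj Q x2 y2 (proj Q x1 y1 v0), ?_, ?_, polar_proj_left h2 _, polar_proj_right h2 _, ?_⟩
    · rw [polar_proj_of_perp a1' a2', polar_proj_left h1]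
    · rw [polar_proj_of_perp a3' a4', polar_proj_right h1]
    · rw [polar_proj_of_perp u3 u4, polar_proj_of_perp u1 u2]
      exact hv0
  have hadd : Q (u + v) = Q u + Q v + 1 := by rw [Q_add, v5]
  have hself : ∀ w : V, polar Q w w = 0 := by
    intro w
    have h2 : (2 : ZMod 2) = 0 := by decide
    rw [polar_self, two_smul, ← two_mul, h2, zero_mul]
  have p1 : polar Q u (u + v) = 1 := by rw [polar_add_right, hself, v5, zero_add]
  have p2 : polar Q (u + v) v = 1 := by rw [polar_add_left, hself, v5, add_zero]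
  have q1 : ∀ z : V, polar Q z u = 0 → polar Q z v = 0 → polar Q z (u + v) = 0 := by
    intro z h3 h4
    rw [polar_add_right, h3, h4, add_zero]
  rcases zero_or_one (Q u) with hu' | hu' <;> rcases zero_or_one (Q v) with hv' | hv'
  · exact ⟨x1, y1, x2, y2, u, v, 0, h1, h2, a1, a2, a3, a4, u1, u2, u3, u4, v1, v2, v3, v4, v5,
      hu', hv'⟩
  · exact ⟨x1, y1, x2, y2, u, u + v, 0, h1, h2, a1, a2, a3, a4, u1, u2, u3, u4, q1 _ u1 v1,
      q1 _ u2 v2, q1 _ u3 v3, q1 _ u4 v4, p1, hu', by rw [hadd, hu', hv']; decide⟩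
  · exact ⟨x1, y1, x2, y2, u + v, v, 0, h1, h2, a1, a2, a3, a4, q1 _ u1 v1,
      q1 _ u2 v2, q1 _ u3 v3, q1 _ u4 v4, v1, v2, v3, v4, p2, by rw [hadd, hu', hv']; decide, hv'⟩
  · exact ⟨x1, y1, x2, y2, u, v, 1, h1, h2, a1, a2, a3, a4, u1, u2, u3, u4, v1, v2, v3, v4, v5,
      hu', hv'⟩

theorem exists_iso (hQ : Nondeg Q) (hd : Module.finrank (ZMod 2) V = 6) :
    ∃ (m : ZMod 2) (e : (Fin 6 → ZMod 2) ≃ₗ[ZMod 2] V), ∀ c, Q (e c) = qf m c := by
  obtain ⟨x1, y1, x2, y2, u, v, m, h1, h2, a1, a2, a3, a4, u1, u2, u3, u4, v1, v2, v3, v4, v5,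
    hu, hv⟩ := exists_pairs hQ hd
  have hfd : Module.Finite (ZMod 2) V := Module.finite_of_finrank_pos (by omega)
  let φ : (Fin 6 → ZMod 2) →ₗ[ZMod 2] V :=
    { toFun := fun c => c 0 • x1 + c 1 • y1 + c 2 • x2 + c 3 • y2 + c 4 • u + c 5 • v
      map_add' := by
        intro c d
        simp only [Pi.add_apply, add_smul]
        abel
      map_smul' := by
        intro t c
        simp only [Pi.smul_apply, smul_eq_mul, mul_smul, smul_add, RingHom.id_apply] }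
  have hφ' : ∀ c, φ c = c 0 • x1 + c 1 • y1 + c 2 • x2 + c 3 • y2 + c 4 • u + c 5 • v :=
    fun _ => rfl
  have hφ : ∀ c, Q (φ c) = qf m c := by
    intro c
    rw [hφ', qf]
    simp only [Q_add, QuadraticMap.map_smul, polar_add_left, polar_smul_right, polar_smul_left,
      h1.left, h1.right, h2.left, h2.right, h1.pair, h2.pair, a1, a2, a3, a4, u1, u2, u3, u4, v1, v2,
      v3, v4, v5, hu, hv, smul_eq_mul]
    ring
  have hself : ∀ w : V, polar Q w w = 0 := by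
    intro w
    have h2 : (2 : ZMod 2) = 0 := by decide
    rw [polar_self, two_smul, ← two_mul, h2, zero_mul]
  have pc : ∀ x y : V, polar Q x y = polar Q y x := fun x y => polar_comm _ _ _
  have hinj : Function.Injective φ := by
    rw [← LinearMap.ker_eq_bot, LinearMap.ker_eq_bot']
    intro c hc0
    have e0 : polar Q (φ c) y1 = c 0 := by
      rw [hφ']
      simp only [polar_add_left, polar_smul_left, h1.pair, hself, pc x2 y1, a3, pc y2 y1, a4,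
        pc u y1, u2, pc v y1, v2, smul_eq_mul]
      ring
    have e1 : polar Q (φ c) x1 = c 1 := by
      rw [hφ']
      simp only [polar_add_left, polar_smul_left, h1.pair', hself, pc x2 x1, a1, pc y2 x1, a2,
        pc u x1, u1, pc v x1, v1, smul_eq_mul]
      ring
    have e2 : polar Q (φ c) y2 = c 2 := by
      rw [hφ']
      simp only [polar_add_left, polar_smul_left, h2.pair, hself, a2, a4,
        pc u y2, u4, pc v y2, v4, smul_eq_mul]
      ring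
    have e3 : polar Q (φ c) x2 = c 3 := by
      rw [hφ']
      simp only [polar_add_left, polar_smul_left, h2.pair', hself, a1, a3,
        pc u x2, u3, pc v x2, v3, smul_eq_mul]
      ring
    have e4 : polar Q (φ c) v = c 4 := by
      rw [hφ']
      simp only [polar_add_left, polar_smul_left, hself, v1, v2, v3, v4, v5, smul_eq_mul]
      ring
    have e5 : polar Q (φ c) u = c 5 := by
      rw [hφ']
      simp only [polar_add_left, polar_smul_left, hself, u1, u2, u3, u4, pc v u, v5, smul_eq_mul]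
      ring
    rw [hc0, polar_zero_left] at e0 e1 e2 e3 e4 e5
    ext i
    fin_cases i
    · exact e0.symm
    · exact e1.symm
    · exact e2.symm
    · exact e3.symm
    · exact e4.symm
    · exact e5.symm
  refine ⟨m, LinearEquiv.ofInjectiveOfFinrankEq φ hinj ?_, hφ⟩
  rw [hd, Module.finrank_fin_fun]

end Normal

/-! ### the tables -/

/-- six bits -/
abbrev Z6 := ZMod 2 × ZMod 2 × ZMod 2 × ZMod 2 × ZMod 2 × ZMod 2

/-- quadratic form on bits -/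
def qq (m : ZMod 2) (c : Z6) : ZMod 2 :=
  c.1 * c.2.1 + c.2.2.1 * c.2.2.2.1 + c.2.2.2.2.1 * c.2.2.2.2.2 +
    m * (c.2.2.2.2.1 * c.2.2.2.2.1 + c.2.2.2.2.2 * c.2.2.2.2.2)

/-- its polar form -/
def pp (c d : Z6) : ZMod 2 :=
  c.1 * d.2.1 + c.2.1 * d.1 + (c.2.2.1 * d.2.2.2.1 + c.2.2.2.1 * d.2.2.1) +
    (c.2.2.2.2.1 * d.2.2.2.2.2 + c.2.2.2.2.2 * d.2.2.2.2.1)

/-- table -/
def T0 : Fin 28 → Z6 := ![
  (0, 0, 0, 0, 1, 1),
  (0, 0, 0, 1, 1, 1),
  (0, 0, 1, 0, 1, 1),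
  (0, 0, 1, 1, 0, 0),
  (0, 0, 1, 1, 0, 1),
  (0, 0, 1, 1, 1, 0),
  (0, 1, 0, 0, 1, 1),
  (0, 1, 0, 1, 1, 1),
  (0, 1, 1, 0, 1, 1),
  (0, 1, 1, 1, 0, 0),
  (0, 1, 1, 1, 0, 1),
  (0, 1, 1, 1, 1, 0),
  (1, 0, 0, 0, 1, 1),
  (1, 0, 0, 1, 1, 1),
  (1, 0, 1, 0, 1, 1),
  (1, 0, 1, 1, 0, 0),
  (1, 0, 1, 1, 0, 1),
  (1, 0, 1, 1, 1, 0),
  (1, 1, 0, 0, 0, 0),
  (1, 1, 0, 0, 0, 1),
  (1, 1, 0, 0, 1, 0),
  (1, 1, 0, 1, 0, 0),
  (1, 1, 0, 1, 0, 1),
  (1, 1, 0, 1, 1, 0),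
  (1, 1, 1, 0, 0, 0),
  (1, 1, 1, 0, 0, 1),
  (1, 1, 1, 0, 1, 0),
  (1, 1, 1, 1, 1, 1)]

/-- table -/
def S0 : Fin 28 → Fin 8 × Fin 8 := ![
  (0, 1),
  (5, 6),
  (5, 7),
  (6, 7),
  (0, 2),
  (1, 2),
  (2, 3),
  (4, 7),
  (4, 6),
  (4, 5),
  (1, 3),
  (0, 3),
  (2, 4),
  (3, 7),
  (3, 6),
  (3, 5),
  (1, 4),
  (0, 4),
  (3, 4),
  (1, 5),
  (0, 5),
  (2, 7),
  (0, 6),
  (1, 6),
  (2, 6),
  (0, 7),
  (1, 7),
  (2, 5)]

/-- table -/
def T1 : Fin 36 → Z6 := ![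
  (0, 0, 0, 0, 0, 1),
  (0, 0, 0, 0, 1, 0),
  (0, 0, 0, 0, 1, 1),
  (0, 0, 0, 1, 0, 1),
  (0, 0, 0, 1, 1, 0),
  (0, 0, 0, 1, 1, 1),
  (0, 0, 1, 0, 0, 1),
  (0, 0, 1, 0, 1, 0),
  (0, 0, 1, 0, 1, 1),
  (0, 0, 1, 1, 0, 0),
  (0, 1, 0, 0, 0, 1),
  (0, 1, 0, 0, 1, 0),
  (0, 1, 0, 0, 1, 1),
  (0, 1, 0, 1, 0, 1),
  (0, 1, 0, 1, 1, 0),
  (0, 1, 0, 1, 1, 1),
  (0, 1, 1, 0, 0, 1),
  (0, 1, 1, 0, 1, 0),
  (0, 1, 1, 0, 1, 1),
  (0, 1, 1, 1, 0, 0),
  (1, 0, 0, 0, 0, 1),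
  (1, 0, 0, 0, 1, 0),
  (1, 0, 0, 0, 1, 1),
  (1, 0, 0, 1, 0, 1),
  (1, 0, 0, 1, 1, 0),
  (1, 0, 0, 1, 1, 1),
  (1, 0, 1, 0, 0, 1),
  (1, 0, 1, 0, 1, 0),
  (1, 0, 1, 0, 1, 1),
  (1, 0, 1, 1, 0, 0),
  (1, 1, 0, 0, 0, 0),
  (1, 1, 0, 1, 0, 0),
  (1, 1, 1, 0, 0, 0),
  (1, 1, 1, 1, 0, 1),
  (1, 1, 1, 1, 1, 0),
  (1, 1, 1, 1, 1, 1)]

/-- table -/
def R1 : Fin 36 → ZMod 3 × ZMod 3 × ZMod 3 × ZMod 3 × ZMod 3 := ![
  (0, 0, 0, 1, 0),
  (1, 1, 1, 1, 0),
  (1, 1, 1, 2, 0),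
  (0, 0, 1, 0, 0),
  (1, 1, 2, 2, 0),
  (1, 1, 2, 1, 0),
  (1, 0, 1, 0, 1),
  (0, 1, 0, 2, 2),
  (0, 1, 0, 1, 2),
  (1, 0, 2, 0, 1),
  (0, 1, 0, 0, 0),
  (1, 2, 1, 2, 0),
  (1, 2, 1, 1, 0),
  (1, 0, 0, 0, 0),
  (1, 2, 2, 1, 0),
  (1, 2, 2, 2, 0),
  (1, 0, 1, 0, 2),
  (0, 1, 0, 2, 1),
  (0, 1, 0, 1, 1),
  (1, 0, 2, 0, 2),
  (1, 1, 0, 0, 1),
  (0, 0, 1, 2, 2),
  (0, 0, 1, 1, 2),
  (1, 1, 0, 0, 2),
  (0, 0, 1, 2, 1),
  (0, 0, 1, 1, 1),
  (0, 1, 1, 0, 1),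
  (1, 0, 0, 2, 2),
  (1, 0, 0, 1, 2),
  (0, 1, 2, 0, 1),
  (1, 2, 0, 0, 1),
  (1, 2, 0, 0, 2),
  (0, 1, 2, 0, 2),
  (0, 1, 1, 0, 2),
  (1, 0, 0, 2, 1),
  (1, 0, 0, 1, 1)]

/-- the form with discriminant `2` on quintuples -/
def bb (u v : ZMod 3 × ZMod 3 × ZMod 3 × ZMod 3 × ZMod 3) : ZMod 3 :=
  u.1 * v.1 + (u.2.1 * v.2.1 + (u.2.2.1 * v.2.2.1 + (u.2.2.2.1 * v.2.2.2.1 +
    2 * (u.2.2.2.2 * v.2.2.2.2))))

theorem T0_all : ∀ t : Z6, ¬ qq 0 t = 1 ∨ ∃ i, t = T0 i := by decide +kernel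

theorem T0_one : ∀ i, qq 0 (T0 i) = 1 := by decide +kernel

theorem T0_inj : ∀ i j, T0 i = T0 j → i = j := by decide +kernel

theorem S0_ne : ∀ i, (S0 i).1 ≠ (S0 i).2 := by decide +kernel

theorem S0_all : ∀ a b : Fin 8, a ≠ b → ∃ i, S0 i = (a, b) ∨ S0 i = (b, a) := by decide +kernel

theorem S0_inj : ∀ i j, ((S0 i).1 = (S0 j).1 ∧ (S0 i).2 = (S0 j).2) ∨
    ((S0 i).1 = (S0 j).2 ∧ (S0 i).2 = (S0 j).1) → i = j := by decide +kernel

theorem key0 : ∀ i j, pp (T0 i) (T0 j) = 0 ↔ i = j ∨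
    ((S0 i).1 ≠ (S0 j).1 ∧ (S0 i).1 ≠ (S0 j).2 ∧ (S0 i).2 ≠ (S0 j).1 ∧ (S0 i).2 ≠ (S0 j).2) := by
  decide +kernel

theorem T1_all : ∀ t : Z6, ¬ qq 1 t = 1 ∨ ∃ i, t = T1 i := by decide +kernel

theorem T1_one : ∀ i, qq 1 (T1 i) = 1 := by decide +kernel

theorem T1_inj : ∀ i j, T1 i = T1 j → i = j := by decide +kernel

theorem R1_one : ∀ i, bb (R1 i) (R1 i) = 1 := by decide +kernel

theorem R1_inj : ∀ i j, (R1 i = R1 j ∨ R1 i = -R1 j) → i = j := by decide +kernel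

theorem R1_all : ∀ v : ZMod 3 × ZMod 3 × ZMod 3 × ZMod 3 × ZMod 3, ¬ bb v v = 1 ∨
    ∃ i, v = R1 i ∨ v = -R1 i := by decide +kernel

theorem key1 : ∀ i j, pp (T1 i) (T1 j) = 0 ↔ i = j ∨ bb (R1 i) (R1 j) = 0 := by decide +kernel

/-- tuples -/
def tup (v : Fin 6 → ZMod 2) : Z6 := (v 0, v 1, v 2, v 3, v 4, v 5)

/-- vectors -/
def vec (t : Z6) : Fin 6 → ZMod 2 := ![t.1, t.2.1, t.2.2.1, t.2.2.2.1, t.2.2.2.2.1, t.2.2.2.2.2]

theorem vec_tup (v : Fin 6 → ZMod 2) : vec (tup v) = v := by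
  ext i
  fin_cases i <;> rfl

theorem tup_vec (t : Z6) : tup (vec t) = t := rfl

theorem qf_eq (m : ZMod 2) (v : Fin 6 → ZMod 2) : qf m v = qq m (tup v) := rfl

theorem polar_eq {Q : QuadraticForm (ZMod 2) (Fin (2 * 3) → ZMod 2)} {m : ZMod 2}
    {e : (Fin 6 → ZMod 2) ≃ₗ[ZMod 2] (Fin (2 * 3) → ZMod 2)} (he : ∀ c, Q (e c) = qf m c)
    (c d : Fin 6 → ZMod 2) : polar Q (e c) (e d) = pp (tup c) (tup d) := by
  have h2 : (2 : ZMod 2) = 0 := by decide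
  rw [polar, ← map_add, he, he, he]
  simp only [qf, pp, tup, Pi.add_apply]
  linear_combination (m * (c 4 * d 4 + c 5 * d 5)) * h2

/-- the bilinear form with discriminant `2` -/
noncomputable def B5 : LinearMap.BilinForm (ZMod 3) (Fin 5 → ZMod 3) :=
  LinearMap.mk₂ (ZMod 3) (fun u v => u 0 * v 0 + (u 1 * v 1 + (u 2 * v 2 + (u 3 * v 3 +
    2 * (u 4 * v 4)))))
    (fun _ _ _ => by simp only [Pi.add_apply]; ring)
    (fun _ _ _ => by simp only [Pi.smul_apply, smul_eq_mul]; ring)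
    (fun _ _ _ => by simp only [Pi.add_apply]; ring)
    (fun _ _ _ => by simp only [Pi.smul_apply, smul_eq_mul]; ring)

theorem B5_eq (u v : Fin 5 → ZMod 3) : B5 u v = bb (tup5 u) (tup5 v) := rfl

theorem B5_comm (u v : Fin 5 → ZMod 3) : B5 u v = B5 v u := by
  rw [B5_eq, B5_eq, bb, bb]
  ring

theorem B5_symm : B5.IsSymm := ⟨fun u v => B5_comm u v⟩

theorem B5_nondegenerate : B5.Nondegenerate := by
  have h : ∀ u : Fin 5 → ZMod 3, (∀ v, B5 u v = 0) → u = 0 := by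
    intro u hu
    have h0 := hu ![1, 0, 0, 0, 0]
    have h1 := hu ![0, 1, 0, 0, 0]
    have h2 := hu ![0, 0, 1, 0, 0]
    have h3 := hu ![0, 0, 0, 1, 0]
    have h4 := hu ![0, 0, 0, 0, 2]
    rw [B5_eq, bb] at h0 h1 h2 h3 h4
    simp [tup5] at h0 h1 h2 h3 h4
    have h44 : u 4 = 0 := by
      have h5 : (2 : ZMod 3) * (u 4 * 2) = u 4 := by
        have : (4 : ZMod 3) = 1 := by decide
        linear_combination (u 4) * this
      rcases h4 with h4 | h4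
      · exact absurd h4 (by decide)
      · rcases h4 with h4 | h4
        · exact h4
        · exact absurd h4 (by decide)
    ext i
    fin_cases i
    · exact h0
    · exact h1
    · exact h2
    · exact h3
    · exact h44
  refine ⟨fun u hu => h u hu, fun u hu => h u (fun v => ?_)⟩
  have : B5 v u = 0 := hu v
  rw [← this]
  exact B5_comm u v

/-- **The piece `isoO`.** -/
theorem isoO {G : Type u} [Group G] (E : Set G) (h : IsO 3 E) : IsSym 8 E ∨ IsR 5 E := by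
  classical
  obtain ⟨Q, f, hnd, hone, hcomm, hinj, hsurj⟩ := h
  have hN : Nondeg Q := fun x hx => hnd x hx
  obtain ⟨m, e, he⟩ := exists_iso hN (by rw [Module.finrank_fin_fun])
  have hpol : ∀ x y : G, polar Q (f x) (f y) = pp (tup (e.symm (f x))) (tup (e.symm (f y))) := by
    intro x y
    rw [← polar_eq he, e.apply_symm_apply, e.apply_symm_apply]
  have hq : ∀ x ∈ E, qq m (tup (e.symm (f x))) = 1 := by
    intro x hx
    rw [← qf_eq, ← he, e.apply_symm_apply]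
    exact hone x hx
  have hfi : ∀ x ∈ E, ∀ y ∈ E, tup (e.symm (f x)) = tup (e.symm (f y)) → x = y := by
    intro x hx y hy hxy
    apply hinj x hx y hy
    apply e.symm.injective
    rw [← vec_tup (e.symm (f x)), hxy, vec_tup]
  have hfs : ∀ t : Z6, qq m t = 1 → ∃ x ∈ E, tup (e.symm (f x)) = t := by
    intro t ht
    obtain ⟨x, hx, hxt⟩ := hsurj (e (vec t)) (by rw [he, qf_eq, tup_vec]; exact ht)
    exact ⟨x, hx, by rw [hxt, e.symm_apply_apply, tup_vec]⟩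
  rcases zero_or_one m with rfl | rfl
  · left
    have hidx : ∀ x ∈ E, ∃ i, tup (e.symm (f x)) = T0 i := by
      intro x hx
      rcases T0_all (tup (e.symm (f x))) with h1 | h1
      · exact absurd (hq x hx) h1
      · exact h1
    choose! ix hix using hidx
    have hixi : ∀ x ∈ E, ∀ y ∈ E, ix x = ix y → x = y := fun x hx y hy hxy =>
      hfi x hx y hy (by rw [hix x hx, hix y hy, hxy])
    have hpair : ∀ i j, (({(S0 i).1, (S0 i).2} : Finset (Fin 8)) = {(S0 j).1, (S0 j).2}) ↔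
        i = j := by
      intro i j
      constructor
      · intro hij
        apply S0_inj
        have h1 : (S0 i).1 ∈ ({(S0 j).1, (S0 j).2} : Finset (Fin 8)) := by rw [← hij]; simp
        have h2 : (S0 i).2 ∈ ({(S0 j).1, (S0 j).2} : Finset (Fin 8)) := by rw [← hij]; simp
        rw [Finset.mem_insert, Finset.mem_singleton] at h1 h2
        have h3 := S0_ne i
        rcases h1 with h1 | h1 <;> rcases h2 with h2 | h2
        · exact absurd (h1.trans h2.symm) h3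
        · exact Or.inl ⟨h1, h2⟩
        · exact Or.inr ⟨h1, h2⟩
        · exact absurd (h1.trans h2.symm) h3
      · rintro rfl; rfl
    refine ⟨fun x => {(S0 (ix x)).1, (S0 (ix x)).2}, ?_, ?_, ?_, ?_⟩
    · intro x _
      exact Finset.card_pair (S0_ne _)
    · intro x hx y hy
      rw [hcomm x hx y hy, hpol, hix x hx, hix y hy, key0, hpair]
      apply or_congr_right
      rw [Finset.disjoint_left]
      simp only [Finset.mem_insert, Finset.mem_singleton, not_or]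
      constructor
      · rintro ⟨h1, h2, h3, h4⟩ a (rfl | rfl)
        · exact ⟨h1, h2⟩
        · exact ⟨h3, h4⟩
      · intro h1
        have h2 := h1 (Or.inl rfl)
        have h3 := h1 (a := (S0 (ix x)).2) (Or.inr rfl)
        exact ⟨h2.1, h2.2, h3.1, h3.2⟩
    · intro x hx y hy hxy
      exact hixi x hx y hy ((hpair _ _).1 hxy)
    · intro s hs
      obtain ⟨a, b, hab, rfl⟩ := Finset.card_eq_two.1 hs
      obtain ⟨i, hi⟩ := S0_all a b hab
      obtain ⟨x, hx, hxt⟩ := hfs (T0 i) (T0_one i)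
      have h1 : ix x = i := by
        apply T0_inj
        rw [← hix x hx, hxt]
      refine ⟨x, hx, ?_⟩
      show ({(S0 (ix x)).1, (S0 (ix x)).2} : Finset (Fin 8)) = {a, b}
      rw [h1]
      rcases hi with hi | hi
      · rw [hi]
      · rw [hi]; exact Finset.pair_comm _ _
  · right
    have hidx : ∀ x ∈ E, ∃ i, tup (e.symm (f x)) = T1 i := by
      intro x hx
      rcases T1_all (tup (e.symm (f x))) with h1 | h1
      · exact absurd (hq x hx) h1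
      · exact h1
    choose! ix hix using hidx
    have hixi : ∀ x ∈ E, ∀ y ∈ E, ix x = ix y → x = y := fun x hx y hy hxy =>
      hfi x hx y hy (by rw [hix x hx, hix y hy, hxy])
    refine ⟨B5, fun x => vec5 (R1 (ix x)), B5_symm, B5_nondegenerate, ?_, ?_, ?_, ?_⟩
    · intro x _
      rw [B5_eq, tup_vec5]
      exact R1_one _
    · intro x hx y hy
      rw [hcomm x hx y hy, hpol, hix x hx, hix y hy, key1, B5_eq, tup_vec5, tup_vec5]
      apply or_congr_left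
      exact ⟨fun h1 => hixi x hx y hy h1, fun h1 => by rw [h1]⟩
    · intro x hx y hy hxy
      apply hixi x hx y hy
      apply R1_inj
      rcases hxy with h | h
      · left
        exact congrArg tup5 h
      · right
        rw [← vec5_neg] at h
        exact congrArg tup5 h
    · intro v hv
      rcases R1_all (tup5 v) with h | ⟨i, hi⟩
      · exact absurd (by rw [← B5_eq]; exact hv) h
      · obtain ⟨x, hx, hxt⟩ := hfs (T1 i) (T1_one i)
        have h1 : ix x = i := by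
          apply T1_inj
          rw [← hix x hx, hxt]
        refine ⟨x, hx, ?_⟩
        rw [← vec_tup5 v]
        rcases hi with hi | hi
        · left
          show vec5 (tup5 v) = vec5 (R1 (ix x))
          rw [hi, h1]
        · right
          show vec5 (tup5 v) = - vec5 (R1 (ix x))
          rw [hi, h1, vec5_neg]

end Cfsg.Agent.Fischer920.IsoO
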